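import Groth.Agent.SpMonoIso.PureFlat
import Groth.Agent.AlgSpLib.Sheaf
import Mathlib.AlgebraicGeometry.Morphisms.Flat
import Mathlib.Algebra.Category.Ring.Constructions
import Mathlib.Algebra.TrivSqZeroExt.Basic
import Mathlib.RingTheory.Etale.Basic
import Mathlib.AlgebraicGeometry.Morphisms.Etale

/-!
# Affine morphisms with etale self-product which are injective on functions universally
-/

set_option linter.style.haveILetI false

universe u

open CategoryTheory CategoryTheory.Limits AlgebraicGeometry TensorProduct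

namespace Groth.Agent.SpMonoIso

/-- Functions are injective on pullback along a universal test. -/
def UnivInjOn {U T : Scheme.{u}} (c : U ⟶ T) : Prop :=
  ∀ (A' : CommRingCat.{u}) (b : Spec A' ⟶ T) (P : Scheme.{u}) (p : P ⟶ U) (q : P ⟶ Spec A'),
    IsPullback p q c b → Function.Injective q.appTop

theorem fppf_specMap {A C : CommRingCat.{u}} (φ : A ⟶ C)
    (het : Etale (pullback.fst (Spec.map φ) (Spec.map φ))) (hinj : UnivInjOn (Spec.map φ)) :
    AlgSpLib.fppf (Spec.map φ) := by
  haveI : MorphismProperty.RespectsIso (C := Scheme.{u}) @Etale :=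
    MorphismProperty.IsStableUnderBaseChange.respectsIso
  letI : Algebra A C := φ.hom.toAlgebra
  have hsq : ∀ (A' : Type u) [CommRing A'] [Algebra A A'],
      IsPullback (Spec.map (CommRingCat.ofHom
          (Algebra.TensorProduct.includeLeftRingHom : ↑C →+* ↑C ⊗[↑A] A')))
        (Spec.map (CommRingCat.ofHom
          ((Algebra.TensorProduct.includeRight : A' →ₐ[↑A] ↑C ⊗[↑A] A').toRingHom)))
        (Spec.map φ) (Spec.map (CommRingCat.ofHom (algebraMap ↑A A'))) := fun A' _ _ =>
    isPullback_SpecMap_of_isPushout _ _ _ _ (CommRingCat.isPushout_tensorProduct ↑A ↑C A')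
  have hinjR : ∀ (A' : Type u) [CommRing A'] [Algebra A A'],
      Function.Injective fun a : A' => (1 : C) ⊗ₜ[A] a := by
    intro A' _ _
    have h := hinj _ _ _ _ _ (hsq A')
    intro a b hab
    let f := CommRingCat.ofHom ((Algebra.TensorProduct.includeRight : A' →ₐ[↑A] ↑C ⊗[↑A] A').toRingHom)
    have hn := Scheme.ΓSpecIso_inv_naturality f
    have ha := congrArg (fun g => g.hom a) hn
    have hb := congrArg (fun g => g.hom b) hn
    simp only [CommRingCat.hom_comp, RingHom.comp_apply] at ha hb
    have hfab : f.hom a = f.hom b := hab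
    rw [hfab, hb] at ha
    exact (ConcreteCategory.bijective_of_isIso (Scheme.ΓSpecIso (CommRingCat.of A')).inv).1 (h ha).symm
  have hpure : ∀ (N : Type u) [AddCommGroup N] [Module A N],
      Function.Injective (TensorProduct.mk A C N 1) := by
    intro N _ _
    letI : Module (↑A)ᵐᵒᵖ N := Module.compHom N ((RingHom.id ↑A).fromOpposite mul_comm)
    haveI : IsCentralScalar ↑A N := ⟨fun _ _ => rfl⟩
    refine (injective_iff_map_eq_zero _).2 fun n hn => ?_
    have h := hinjR (TrivSqZeroExt ↑A N) (a₁ := TrivSqZeroExt.inr n) (a₂ := 0) (by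
      have := congrArg (LinearMap.lTensor (↑C : Type u) (TrivSqZeroExt.inrHom ↑A N)) hn
      simpa using this)
    exact TrivSqZeroExt.inr_injective (h.trans (TrivSqZeroExt.inr_zero ↑A).symm)
  have het' : Etale (Spec.map (CommRingCat.ofHom
      (Algebra.TensorProduct.includeLeftRingHom : ↑C →+* ↑C ⊗[↑A] ↑C))) := by
    have sq := hsq C
    rw [show CommRingCat.ofHom (algebraMap ↑A ↑C) = φ from rfl] at sq
    rw [← sq.isoPullback_hom_fst]
    exact (MorphismProperty.cancel_left_of_respectsIso @Etale _ _).2 het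
  haveI : Algebra.Etale C (C ⊗[A] C) := by
    rw [← RingHom.etale_algebraMap]
    exact (HasRingHomProperty.Spec_iff (P := @Etale)).1 het'
  haveI : Module.Flat A C := flat_of_baseChange_of_pure hpure C
  haveI : Module.FaithfullyFlat A C := faithfullyFlat_of_pure hpure
  haveI : Algebra.FinitePresentation A C :=
    Algebra.FinitePresentation.of_finitePresentation_tensorProduct_of_faithfullyFlat C
  have hff : φ.hom.FaithfullyFlat := (RingHom.faithfullyFlat_algebraMap_iff (R := A) (S := C)).2 inferInstance
  obtain ⟨h1, h2⟩ := (flat_and_surjective_SpecMap_iff φ).2 hff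
  exact ⟨⟨h2, h1⟩, (HasRingHomProperty.Spec_iff (P := @LocallyOfFinitePresentation)).2
    ((RingHom.finitePresentation_algebraMap (A := ↑A) (B := ↑C)).2 inferInstance)⟩

theorem fppf_of_isAffine {U T : Scheme.{u}} [IsAffine U] [IsAffine T] (c : U ⟶ T)
    (het : Etale (pullback.fst c c)) (hinj : UnivInjOn c) : AlgSpLib.fppf c := by
  haveI : (AlgSpLib.fppf.{u}).RespectsIso := MorphismProperty.IsStableUnderBaseChange.respectsIso
  haveI : MorphismProperty.RespectsIso (C := Scheme.{u}) @Etale :=
    MorphismProperty.IsStableUnderBaseChange.respectsIso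
  let φ := c.appTop
  have hc : U.isoSpec.hom ≫ Spec.map φ = c ≫ T.isoSpec.hom := Scheme.isoSpec_hom_naturality c
  refine (MorphismProperty.arrow_mk_iso_iff AlgSpLib.fppf
    (Arrow.isoMk U.isoSpec T.isoSpec hc : Arrow.mk c ≅ Arrow.mk (Spec.map φ))).2 ?_
  refine fppf_specMap φ ?_ ?_
  · have sq : IsPullback (pullback.fst c c ≫ U.isoSpec.hom) (pullback.snd c c ≫ U.isoSpec.hom)
        (Spec.map φ) (Spec.map φ) :=
      (IsPullback.of_hasPullback c c).of_iso (Iso.refl _) U.isoSpec U.isoSpec T.isoSpec
        (by simp) (by simp) hc.symm hc.symm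
    rw [← sq.isoPullback_inv_fst, MorphismProperty.cancel_left_of_respectsIso @Etale,
      MorphismProperty.cancel_right_of_respectsIso @Etale]
    exact het
  · intro A' b P p q sq
    refine hinj A' (b ≫ T.isoSpec.inv) P (p ≫ U.isoSpec.inv) q ?_
    refine sq.of_iso (Iso.refl _) U.isoSpec.symm (Iso.refl _) T.isoSpec.symm (by simp) (by simp) ?_ (by simp)
    rw [Iso.symm_hom, Iso.symm_hom, ← cancel_mono T.isoSpec.hom, Category.assoc, Category.assoc,
      Iso.inv_hom_id, Category.comp_id, ← hc, Iso.inv_hom_id_assoc]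

end Groth.Agent.SpMonoIso
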