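import Mathlib.RingTheory.Flat.FaithfullyFlat.Basic
import Mathlib.RingTheory.Flat.Basic
import Mathlib.RingTheory.Flat.Tensor
import Mathlib.RingTheory.Finiteness.Descent
import Mathlib.Algebra.Module.CharacterModule
import Mathlib.LinearAlgebra.TensorProduct.Tower
import Mathlib.RingTheory.Spectrum.Prime.Topology

/-!
# Universally injective ring maps descend flatness
-/

universe u

open TensorProduct

namespace Groth.Agent.SpMonoIso

variable {A C : Type u} [CommRing A] [CommRing C] [Algebra A C]

theorem exists_lTensor_ker_subtype {R : Type u} [CommRing R] (N : Type u) [AddCommGroup N] [Module R N]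
    [Module.Flat R N] {P Q : Type u} [AddCommGroup P] [AddCommGroup Q] [Module R P] [Module R Q]
    (g : P →ₗ[R] Q) (n : N ⊗[R] P) (h : LinearMap.lTensor N g n = 0) :
    ∃ y, LinearMap.lTensor N (LinearMap.ker g).subtype y = n :=
  (Module.Flat.lTensor_exact N (LinearMap.exact_subtype_ker_map g) n).1 h

/-- A linear map into a module sees every element of a tensor product by the "evaluation" functional. -/
noncomputable def evalTensor {W : Type u} [AddCommGroup W] [Module A W] (ψ : CharacterModule W) :
    W →ₗ[A] CharacterModule A where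
  toFun w := CharacterModule.dual (LinearMap.toSpanSingleton A W w) ψ
  map_add' w w' := by
    ext a
    show ψ (a • (w + w')) = ψ (a • w) + ψ (a • w')
    rw [smul_add, map_add]
  map_smul' r w := by
    ext a
    show ψ (a • r • w) = ψ ((r • a) • w)
    rw [smul_smul, smul_eq_mul, mul_comm r a]

theorem evalTensor_apply {W : Type u} [AddCommGroup W] [Module A W] (ψ : CharacterModule W) (w : W)
    (a : A) : evalTensor (A := A) ψ w a = ψ (a • w) := rfl


set_option maxHeartbeats 1000000 in
theorem flat_of_baseChange_of_pure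
    (hpure : ∀ (N : Type u) [AddCommGroup N] [Module A N],
      Function.Injective (TensorProduct.mk A C N 1))
    (M : Type u) [AddCommGroup M] [Module A M] [Module.Flat C (C ⊗[A] M)] : Module.Flat A M := by
  rw [Module.Flat.iff_lTensor_injective']
  intro I
  refine (injective_iff_map_eq_zero _).2 fun z hz => CharacterModule.eq_zero_of_character_apply fun ψ => ?_
  obtain ⟨χ, hχ⟩ := CharacterModule.dual_surjective_of_injective _ (hpure (CharacterModule A))
    (AddMonoidHom.mk' (fun a : CharacterModule A => a 1) fun _ _ => rfl)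
  have hχ1 : ∀ a : CharacterModule A, χ ((1 : C) ⊗ₜ[A] a) = a 1 := fun a => DFunLike.congr_fun hχ a
  let Ψ : C ⊗[A] (M ⊗[A] ↥I) →+ AddCircle (1 : ℚ) :=
    AddMonoidHom.comp χ (LinearMap.lTensor C (evalTensor ψ)).toAddMonoidHom
  have hΨ1 : Ψ ((1 : C) ⊗ₜ z) = ψ z := by
    show χ ((1 : C) ⊗ₜ[A] evalTensor ψ z) = ψ z
    rw [hχ1, evalTensor_apply, one_smul]
  let g : C ⊗[A] ↥I →ₗ[C] C ⊗[A] A := LinearMap.baseChange C I.subtype
  let e := AlgebraTensorModule.distribBaseChange A C M ↥I
  let T := LinearMap.ker g
  have hw : LinearMap.lTensor (C ⊗[A] M) g (e ((1 : C) ⊗ₜ z)) = 0 := by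
    have : (LinearMap.lTensor (C ⊗[A] M) g).comp e.toLinearMap =
        (AlgebraTensorModule.distribBaseChange A C M A).toLinearMap.comp
          (LinearMap.baseChange C (LinearMap.lTensor M I.subtype)) := by
      ext c m x
      simp [g, e]
    have h2 := LinearMap.congr_fun this ((1 : C) ⊗ₜ z)
    simp only [LinearMap.coe_comp, LinearEquiv.coe_coe, Function.comp_apply] at h2
    rw [h2, LinearMap.baseChange_tmul, hz, tmul_zero, map_zero]
  obtain ⟨y, hy⟩ := exists_lTensor_ker_subtype (C ⊗[A] M) g (e ((1 : C) ⊗ₜ z)) hw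
  suffices hk : ∀ y : (C ⊗[A] M) ⊗[C] ↥T, Ψ (e.symm (LinearMap.lTensor (C ⊗[A] M) T.subtype y)) = 0 by
    rw [← hΨ1, ← e.symm_apply_apply ((1 : C) ⊗ₜ z), ← hy]
    exact hk y
  intro y
  induction y with
  | zero => simp only [map_zero]
  | add a b ha hb => simp only [map_add, ha, hb, add_zero]
  | tmul n t =>
    induction n with
    | zero => simp only [zero_tmul, map_zero]
    | add a b ha hb => simp only [add_tmul, map_add, ha, hb, add_zero]
    | tmul c m =>
      rw [LinearMap.lTensor_tmul, Submodule.subtype_apply]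
      obtain ⟨γ, hγ⟩ := CharacterModule.dual_surjective_of_injective _ I.subtype_injective
        (CharacterModule.dual (TensorProduct.mk A M ↥I m) ψ)
      have hγ' : ∀ x : ↥I, γ (x : A) = ψ (m ⊗ₜ[A] x) := fun x => DFunLike.congr_fun hγ x
      -- the functional on `C ⊗ A` through which everything factors
      let L : C ⊗[A] A →ₗ[A] C ⊗[A] CharacterModule A :=
        ((TensorProduct.mk A C (CharacterModule A)).flip γ).comp
          ((LinearMap.mulLeft A c).comp (TensorProduct.rid A C).toLinearMap)
      let Φ : C ⊗[A] ↥I →ₗ[A] C ⊗[A] (M ⊗[A] ↥I) :=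
        (e.symm.toLinearMap.restrictScalars A).comp
          ((TensorProduct.mk C (C ⊗[A] M) (C ⊗[A] ↥I) (c ⊗ₜ m)).restrictScalars A)
      have key : (LinearMap.lTensor C (evalTensor ψ)).comp Φ = L.comp (g.restrictScalars A) := by
        ext d x
        have he : e.symm ((c ⊗ₜ[A] m) ⊗ₜ[C] (d ⊗ₜ[A] x)) = (d * c) ⊗ₜ[A] (m ⊗ₜ[A] x) := by
          apply e.injective
          rw [LinearEquiv.apply_symm_apply, AlgebraTensorModule.distribBaseChange_tmul,
            show d ⊗ₜ[A] x = d • ((1 : C) ⊗ₜ[A] x) by rw [smul_tmul', smul_eq_mul, mul_one],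
            tmul_smul, smul_tmul', smul_tmul', smul_eq_mul]
        have hF : evalTensor (A := A) ψ (m ⊗ₜ[A] x) = (x : A) • γ := by
          ext a
          rw [evalTensor_apply]
          show _ = γ ((x : A) • a)
          rw [show a • (m ⊗ₜ[A] x) = m ⊗ₜ[A] (a • x) from (tmul_smul a m x).symm, ← hγ' (a • x)]
          simp [mul_comm]
        show LinearMap.lTensor C (evalTensor ψ) (e.symm ((c ⊗ₜ[A] m) ⊗ₜ[C] (d ⊗ₜ[A] x))) =
          (c * TensorProduct.rid A C (g (d ⊗ₜ[A] x))) ⊗ₜ[A] γ
        rw [he, LinearMap.lTensor_tmul, hF, tmul_smul, smul_tmul']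
        congr 1
        simp [g, Algebra.smul_def]
        ring
      have := LinearMap.congr_fun key (t : C ⊗[A] ↥I)
      simp only [LinearMap.coe_comp, LinearMap.coe_restrictScalars, Function.comp_apply,
        LinearMap.mem_ker.1 t.2, map_zero] at this
      show χ (LinearMap.lTensor C (evalTensor ψ) (Φ (t : C ⊗[A] ↥I))) = 0
      rw [this, map_zero]

/-- A flat universally injective ring map is faithfully flat. -/
theorem faithfullyFlat_of_pure [Module.Flat A C]
    (hpure : ∀ (N : Type u) [AddCommGroup N] [Module A N],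
      Function.Injective (TensorProduct.mk A C N 1)) : Module.FaithfullyFlat A C := by
  rw [Module.FaithfullyFlat.iff_flat_and_lTensor_reflects_triviality]
  exact ⟨inferInstance, fun N _ _ h => (hpure N).subsingleton⟩

end Groth.Agent.SpMonoIso
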